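import Cfsg.Agent.H802.TE.Defs

/-!
# S5261, part E, (M0): a mixed essential subgroup contains `Z2`
-/

set_option autoImplicit false
set_option linter.unusedSectionVars false

namespace Cfsg.Agent.H534.TE

open Cfsg Cfsg.FusionSystem Cfsg.Agent.H756.PU
open Cfsg.Agent.H765.D3 Cfsg.Agent.H765.D3.Sy
open Cfsg.Agent.Hex.Defs (sh cr nm tr)
open Cfsg.Agent.H802.TE
open scoped commutatorElement

universe u

section Model

variable {F K : Type u} [Field F] [Field K] [Algebra F K] {φ : K ≃ₐ[F] K} [Cub φ]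

/-- `F` has the characteristic of `K` -/
theorem cast_zero {p : ℕ} [CharP K p] : ((p : ℕ) : F) = 0 := by
  apply (algebraMap F K).injective
  rw [map_natCast, map_zero]
  exact CharP.cast_eq_zero K p

theorem two_ne {p : ℕ} (hp : p.Prime) [CharP K p] (h2 : p ≠ 2) : (2 : K) ≠ 0 := by
  intro h
  have h1 : ((2 : ℕ) : K) = 0 := by exact_mod_cast h
  have h3 := (CharP.cast_eq_zero_iff K p 2).1 h1
  exact h2 ((Nat.prime_dvd_prime_iff_eq hp Nat.prime_two).1 h3)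

/-- `s ↦ tr (a s)` as an additive map -/
noncomputable def trHom (φ : K ≃ₐ[F] K) [Cub φ] (a : K) : K →+ F where
  toFun s := tr φ (a * s)
  map_zero' := by rw [mul_zero, tr_zero]
  map_add' s t := by rw [mul_add, tr_add]

theorem trHom_apply (a s : K) : trHom φ a s = tr φ (a * s) := rfl

theorem trHom_surj {a : K} (ha : a ≠ 0) : Function.Surjective (trHom φ a) := by
  intro t
  obtain ⟨s, hs⟩ := exists_tr_ne φ
  refine ⟨(t / tr φ s) • (a⁻¹ * s), ?_⟩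
  rw [trHom_apply, mul_smul_comm, tr_smul, mul_inv_cancel_left₀ ha, div_mul_cancel₀ _ hs]

/-- `|a^⊥| q = |K|` -/
theorem card_ker [Finite F] [Finite K] {a : K} (ha : a ≠ 0) :
    Nat.card (trHom φ a).ker * Nat.card F = Nat.card K := by
  rw [← AddSubgroup.card_mul_index (trHom φ a).ker, AddSubgroup.index_ker,
    AddMonoidHom.range_eq_top.2 (trHom_surj ha), AddSubgroup.card_top]

/-- the cardinality of `a^⊥` is greater than one -/
theorem one_lt_ker [Finite F] [Finite K] (a : K) : 1 < Nat.card (trHom φ a).ker := by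
  rw [Finite.one_lt_card_iff_nontrivial, AddSubgroup.nontrivial_iff_ne_bot]
  intro hbot
  -- then `K → F` is injective, and `F → K` is surjective
  have hinj : Function.Injective (trHom φ a) := (AddMonoidHom.ker_eq_bot_iff _).1 hbot
  have h1 : Nat.card K ≤ Nat.card F := Nat.card_le_card_of_injective _ hinj
  have h2 : Function.Bijective (algebraMap F K) :=
    (Nat.bijective_iff_injective_and_card _).2 ⟨(algebraMap F K).injective,
      le_antisymm (Nat.card_le_card_of_injective _ (algebraMap F K).injective) h1⟩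
  obtain ⟨θ, hθ⟩ := Cub.ne (φ := φ)
  obtain ⟨s, rfl⟩ := h2.2 θ
  exact hθ (φ.commutes s)

theorem mem_of_comm' {H : Subgroup (Sy φ)} {x y : Sy φ} (h : ⁅x, y⁆ ∈ H) : ⁅y, x⁆ ∈ H := by
  rw [← commutatorElement_inv]
  exact inv_mem h

/-- the centre lies in every essential subgroup -/
theorem Z1_le {E : Subgroup (Sy φ)} {p : ℕ} {Γ : Subgroup (MulAut E)} (h : Ess ⊤ E p Γ) : Z1 φ ≤ E := by
  intro x hx
  refine h.cent x trivial fun e _ => ?_
  exact (commutatorElement_eq_one_iff_mul_comm.1 (comm_Z1 (x := e) hx)).symm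

/-- a mixed subgroup contains a regular element -/
theorem exists_reg {E : Subgroup (Sy φ)} (hm : Mixed E) : ∃ e ∈ E, e.x1 ≠ 0 ∧ e.x6 ≠ 0 := by
  obtain ⟨x, hx, hx1⟩ := SetLike.not_le_iff_exists.1 hm.1
  obtain ⟨y, hy, hy1⟩ := SetLike.not_le_iff_exists.1 hm.2
  rw [mem_Q1] at hx1
  rw [mem_Q2] at hy1
  by_cases h6 : x.x6 = 0
  · by_cases h1 : y.x1 = 0
    · refine ⟨x * y, mul_mem hx hy, ?_, ?_⟩
      · rw [mul_x1, h1, add_zero]
        exact hx1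
      · rw [mul_x6, h6, zero_add]
        exact hy1
    · exact ⟨y, hy, h1, hy1⟩
  · exact ⟨x, hx, hx1, h6⟩

theorem u4_pow (w : F) (n : ℕ) : u4 φ w ^ n = u4 φ (n • w) := by
  induction n with
  | zero => rw [pow_zero, zero_smul]; rfl
  | succ n ih => rw [pow_succ, ih, succ_nsmul, u4_add]

theorem pow_Z1 {p : ℕ} [CharP K p] {x : Sy φ} (hx : x ∈ Z1 φ) : x ^ p = 1 := by
  rw [eq_u4 hx, u4_pow, nsmul_eq_mul, cast_zero (K := K), zero_mul]
  rfl

/-- `Z1` centralizes everything -/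
theorem Z1_comm {x : Sy φ} (hx : x ∈ Z1 φ) (y : Sy φ) : x * y = y * x :=
  (commutatorElement_eq_one_iff_mul_comm.1 (comm_Z1 (x := y) hx)).symm

/-- the first step in (M0): a central element `z` of `E` of order `p` with `z.x6 ≠ 0` -/
theorem exists_z (hull : StHull.{u}) {p : ℕ} [CharP K p] {E : Subgroup (Sy φ)} {Γ : Subgroup (MulAut E)}
    (h : Ess ⊤ E p Γ) (hz : ¬ Z2 φ ≤ E) :
    ∃ z ∈ E, (∀ e ∈ E, z * e = e * z) ∧ z ^ p = 1 ∧ z.x6 ≠ 0 := by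
  obtain ⟨γ, -, y, hy, a, ha, hay⟩ := hull h (Z2 φ) (Z1 φ) le_top (Z1_le h)
    (fun a ha m _ => mem_of_comm' (by rw [comm_Z2 ha]; exact u4_mem _)) hz
  refine ⟨γ y, (γ y).2, fun e he => ?_, ?_, fun h6 => hay ?_⟩
  · have h1 : γ y * γ (γ.symm ⟨e, he⟩) = γ (γ.symm ⟨e, he⟩) * γ y := by
      rw [← map_mul, ← map_mul]
      congr 1
      exact Subtype.ext (Z1_comm hy _)
    rw [MulEquiv.apply_symm_apply] at h1
    exact congrArg Subtype.val h1
  · have h1 : y ^ p = 1 := Subtype.ext (pow_Z1 hy)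
    have h2 : (γ y) ^ p = 1 := by rw [← map_pow, h1, map_one]
    exact congrArg Subtype.val h2
  · have h1 : ⁅((γ y : E) : Sy φ), a⁆ = 1 := by
      rw [comm_Z2 ha, h6, zero_mul]
      rfl
    have h2 : ⁅a, ((γ y : E) : Sy φ)⁆ = 1 := by
      rw [← commutatorElement_inv, h1, inv_one]
    rw [commutatorElement_def] at h2
    rw [h2]
    exact one_mem _

/-- a central element of `E` with `z.x6 ≠ 0` is regular, all `(x1, x6)` are multiples of it -/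
theorem reg_of {E : Subgroup (Sy φ)} (hm : Mixed E) {z : Sy φ} (hc : ∀ e ∈ E, z * e = e * z) (h6 : z.x6 ≠ 0) :
    z.x1 ≠ 0 ∧ ∀ e ∈ E, e.x1 = (e.x6 / z.x6) • z.x1 := by
  have key : ∀ e ∈ E, e.x1 = (e.x6 / z.x6) • z.x1 := by
    intro e he
    have h1 : ⁅z, e⁆ = 1 := commutatorElement_eq_one_iff_mul_comm.2 (hc e he)
    have h2 := comm_x5 z e
    rw [h1, one_x5] at h2
    have h3 : z.x6 • e.x1 = e.x6 • z.x1 := (sub_eq_zero.1 h2.symm).symm
    rw [div_eq_mul_inv, mul_comm, mul_smul, ← h3, smul_smul, inv_mul_cancel₀ h6, one_smul]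
  refine ⟨fun h1 => ?_, key⟩
  obtain ⟨e, he, he1, -⟩ := exists_reg hm
  apply he1
  rw [key e he, h1, smul_zero]

/-- **(M0), `p = 2`.** -/
theorem stM02 (hull : StHull.{u}) : StM02.{u} := by
  intro F K _ _ _ _ _ φ _ _ E Γ h hm
  by_contra hz
  obtain ⟨z, hzE, hc, hp, h6⟩ := exists_z hull h hz
  obtain ⟨h1, -⟩ := reg_of hm hc h6
  have h2 := congrArg Sy.x5 hp
  rw [pow_two, mul_x5, one_x5] at h2
  have h3 : z.x5 + z.x5 = 0 := by
    rw [← two_mul]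
    have : ((2 : ℕ) : K) = 0 := CharP.cast_eq_zero K 2
    rw [show (2 : K) = 0 by exact_mod_cast this, zero_mul]
  rw [h3, zero_add, smul_eq_zero] at h2
  exact h2.elim h6 h1

/-! ### `p` odd -/

/-- a subgroup `A` with `[A, E] ≤ M ≤ E` normalizes `E` -/
theorem le_norm {Ω : Type*} [Group Ω] {A E M : Subgroup Ω} (hM : M ≤ E) (h : Com A E M) :
    A ≤ normalizerIn ⊤ E := by
  have key : ∀ x ∈ A, ∀ e ∈ E, x * e * x⁻¹ ∈ E := fun x hx e he => by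
    have h1 := mul_mem (hM (h x hx e he)) he
    rwa [inv_mul_cancel_right] at h1
  intro x hx
  refine ⟨trivial, Subgroup.mem_normalizer_iff.2 fun e => ?_⟩
  constructor
  · intro he
    exact key x hx e he
  · intro he
    have h1 := key x⁻¹ (inv_mem hx) _ he
    have h2 : x⁻¹ * (x * e * x⁻¹) * x⁻¹⁻¹ = e := by group
    rwa [h2] at h1

theorem card_inf_mul {Ω : Type*} [Group Ω] (E A : Subgroup Ω) :
    Nat.card (E ⊓ A : Subgroup Ω) * E.relIndex A = Nat.card A := by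
  rw [Subgroup.relIndex, ← Subgroup.card_mul_index (E.subgroupOf A)]
  congr 1
  rw [← Subgroup.inf_subgroupOf_right]
  exact (Nat.card_congr (Subgroup.subgroupOfEquivOfLe inf_le_right).toEquiv).symm

/-- `A2 = {x ∈ Z4 | tr (a# x5) = 0, tr (a x3) = 0}` -/
def A2 (φ : K ≃ₐ[F] K) [Cub φ] (a : K) : Subgroup (Sy φ) where
  carrier := {x | x.x1 = 0 ∧ x.x6 = 0 ∧ tr φ (sh φ a * x.x5) = 0 ∧ tr φ (a * x.x3) = 0}
  one_mem' := ⟨rfl, rfl, by simp [tr_zero], by simp [tr_zero]⟩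
  mul_mem' {x y} hx hy := by
    simp only [Set.mem_ofPred_eq] at hx hy ⊢
    obtain ⟨h1, h2, h3, h4⟩ := hx
    obtain ⟨k1, k2, k3, k4⟩ := hy
    rw [mul_x1, mul_x6, mul_x5, mul_x3, h1, h2, k1, k2]
    simp only [cr_zero_left, zero_smul, add_zero, mul_add, tr_add, h3, h4, k3, k4, and_self]
  inv_mem' {x} hx := by
    simp only [Set.mem_ofPred_eq] at hx ⊢
    obtain ⟨h1, h2, h3, h4⟩ := hx
    rw [inv_x1, inv_x6, inv_x5, inv_x3, h1, h2, cr_zero_left, zero_smul, zero_smul, add_zero, add_zero, sub_zero,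
      mul_neg, mul_neg, tr_neg, tr_neg, h3, h4]
    simp only [neg_zero, and_self]

/-- `A1 = {x ∈ Z3 | tr (a x3) = 0}` -/
def A1 (φ : K ≃ₐ[F] K) [Cub φ] (a : K) : Subgroup (Sy φ) where
  carrier := {x | x.x1 = 0 ∧ x.x6 = 0 ∧ x.x5 = 0 ∧ tr φ (a * x.x3) = 0}
  one_mem' := ⟨rfl, rfl, rfl, by simp [tr_zero]⟩
  mul_mem' {x y} hx hy := by
    simp only [Set.mem_ofPred_eq] at hx hy ⊢
    obtain ⟨h1, h2, h3, h4⟩ := hx
    obtain ⟨k1, k2, k3, k4⟩ := hy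
    rw [mul_x1, mul_x6, mul_x5, mul_x3, h1, h2, k1, k2, h3, k3]
    simp only [cr_zero_left, zero_smul, add_zero, mul_add, tr_add, h4, k4, and_self]
  inv_mem' {x} hx := by
    simp only [Set.mem_ofPred_eq] at hx ⊢
    obtain ⟨h1, h2, h3, h4⟩ := hx
    rw [inv_x1, inv_x6, inv_x5, inv_x3, h1, h2, h3, cr_zero_left, zero_smul, zero_smul, add_zero, add_zero, sub_zero,
      mul_neg, tr_neg, h4]
    simp only [neg_zero, and_self]

/-- `Y0 = {x ∈ Z3 | tr (a x3) = 0, x2 = 0}` -/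
def Y0 (φ : K ≃ₐ[F] K) [Cub φ] (a : K) : Subgroup (Sy φ) where
  carrier := {x | x.x1 = 0 ∧ x.x6 = 0 ∧ x.x5 = 0 ∧ tr φ (a * x.x3) = 0 ∧ x.x2 = 0}
  one_mem' := ⟨rfl, rfl, rfl, by simp [tr_zero], rfl⟩
  mul_mem' {x y} hx hy := by
    simp only [Set.mem_ofPred_eq] at hx hy ⊢
    obtain ⟨h1, h2, h3, h4, h5⟩ := hx
    obtain ⟨k1, k2, k3, k4, k5⟩ := hy
    rw [mul_x1, mul_x6, mul_x5, mul_x3, mul_x2, h1, h2, k1, k2, h3, k3, h5, k5]
    simp only [cr_zero_left, zero_smul, add_zero, mul_add, tr_add, h4, k4, zero_mul, mul_zero, tr_zero, and_self]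
  inv_mem' {x} hx := by
    simp only [Set.mem_ofPred_eq] at hx ⊢
    obtain ⟨h1, h2, h3, h4, h5⟩ := hx
    rw [inv_x1, inv_x6, inv_x5, inv_x3, inv_x2, h1, h2, h3, h5, cr_zero_left, zero_smul, zero_smul, add_zero, add_zero,
      sub_zero, mul_neg, tr_neg, h4]
    simp [tr_zero, sh_zero, nm_zero]

theorem mem_A2 {a : K} {x : Sy φ} :
    x ∈ A2 φ a ↔ x.x1 = 0 ∧ x.x6 = 0 ∧ tr φ (sh φ a * x.x5) = 0 ∧ tr φ (a * x.x3) = 0 := Iff.rfl
theorem mem_A1 {a : K} {x : Sy φ} :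
    x ∈ A1 φ a ↔ x.x1 = 0 ∧ x.x6 = 0 ∧ x.x5 = 0 ∧ tr φ (a * x.x3) = 0 := Iff.rfl
theorem mem_Y0 {a : K} {x : Sy φ} :
    x ∈ Y0 φ a ↔ x.x1 = 0 ∧ x.x6 = 0 ∧ x.x5 = 0 ∧ tr φ (a * x.x3) = 0 ∧ x.x2 = 0 := Iff.rfl

section Card

variable [Finite K] [Finite F]

theorem card_A2 (a : K) : Nat.card (A2 φ a) =
    Nat.card (trHom φ (sh φ a)).ker * Nat.card (trHom φ a).ker * Nat.card F ^ 2 := by
  rw [Nat.card_congr (β := (trHom φ (sh φ a)).ker × (trHom φ a).ker × F × F)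
    ⟨fun x => (⟨x.1.x5, x.2.2.2.1⟩, ⟨x.1.x3, x.2.2.2.2⟩, x.1.x2, x.1.x4),
    fun w => ⟨⟨0, 0, w.1, w.2.1, w.2.2.1, w.2.2.2⟩, rfl, rfl, w.1.2, w.2.1.2⟩,
    fun x => ?_, fun w => rfl⟩, Nat.card_prod, Nat.card_prod, Nat.card_prod]
  · ring
  obtain ⟨x, h1, h2, h3⟩ := x
  apply Subtype.ext
  ext
  exacts [h1.symm, h2.symm, rfl, rfl, rfl, rfl]

theorem card_A1 (a : K) : Nat.card (A1 φ a) = Nat.card (trHom φ a).ker * Nat.card F ^ 2 := by
  rw [Nat.card_congr (β := (trHom φ a).ker × F × F)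
    ⟨fun x => (⟨x.1.x3, x.2.2.2.2⟩, x.1.x2, x.1.x4),
    fun w => ⟨⟨0, 0, 0, w.1, w.2.1, w.2.2⟩, rfl, rfl, rfl, w.1.2⟩,
    fun x => ?_, fun w => rfl⟩, Nat.card_prod, Nat.card_prod]
  · ring
  obtain ⟨x, h1, h2, h3, h4⟩ := x
  apply Subtype.ext
  ext
  exacts [h1.symm, h2.symm, h3.symm, rfl, rfl, rfl]

theorem card_Y0 (a : K) : Nat.card (Y0 φ a) = Nat.card (trHom φ a).ker * Nat.card F := by
  rw [Nat.card_congr (β := (trHom φ a).ker × F)
    ⟨fun x => (⟨x.1.x3, x.2.2.2.2.1⟩, x.1.x4),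
    fun w => ⟨⟨0, 0, 0, w.1, 0, w.2⟩, rfl, rfl, rfl, w.1.2, rfl⟩,
    fun x => ?_, fun w => rfl⟩, Nat.card_prod]
  obtain ⟨x, h1, h2, h3, h4, h5⟩ := x
  apply Subtype.ext
  ext
  exacts [h1.symm, h2.symm, h3.symm, rfl, h5.symm, rfl]

end Card

theorem comm_u4_mem {x y : Sy φ} {H : Subgroup (Sy φ)} (h : ⁅y, x⁆ ∈ H) : x * y * x⁻¹ * y⁻¹ ∈ H := by
  have h1 := mem_of_comm' h
  rwa [commutatorElement_def] at h1

/-- (M0), `p` odd, in normal form -/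
theorem core (p2 : StP2.{u}) [Finite F] [Finite K] {p : ℕ} {E : Subgroup (Sy φ)} {Γ : Subgroup (MulAut E)}
    (h : Ess ⊤ E p Γ) (h2 : (2 : K) ≠ 0) {a : K} {v : F} (ha : a ≠ 0) (hv : v ≠ 0)
    (hc : ∀ e ∈ E, (u1 φ a * u6 φ v) * e = e * (u1 φ a * u6 φ v))
    (hx : ∀ e ∈ E, ∃ k : F, e.x1 = k • a) (hZ : ¬ Z2 φ ≤ E) : False := by
  set z := u1 φ a * u6 φ v with hz
  have z1 : z.x1 = a := by simp [hz, mul_x1, u1, u6]
  have z6 : z.x6 = v := by simp [hz, mul_x6, u1, u6]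
  have z5 : z.x5 = v • a := by simp [hz, mul_x5, u1, u6]
  have hcom : ∀ e ∈ E, ⁅z, e⁆ = 1 := fun e he => commutatorElement_eq_one_iff_mul_comm.2 (hc e he)
  have hEZ : E ⊓ Z4 φ ≤ Y0 φ a := by
    rintro x ⟨hxE, hx4⟩
    have h5 : x.x5 = 0 := by
      have h1 := comm_x3 (x := z) hx4
      rw [hcom x hxE, one_x3, z1] at h1
      exact (cr_eq_zero φ h2 h1.symm).resolve_left ha
    have hx3 : x ∈ Z3 φ := ⟨hx4.1, hx4.2, h5⟩
    have h3 : tr φ (a * x.x3) = 0 := by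
      have h1 := comm_x2' (x := z) hx3
      rw [hcom x hxE, one_x2, z1] at h1
      exact h1.symm
    have h4 : x.x2 = 0 := by
      have h1 := comm_x4' (x := z) hx3
      rw [hcom x hxE, one_x4, z1, z5, z6, mul_smul_comm, tr_smul, mul_comm x.x3 a, h3] at h1
      simp only [mul_zero, sub_zero, add_zero] at h1
      exact (mul_eq_zero.1 h1.symm).resolve_left hv
    exact ⟨hx4.1, hx4.2, h5, h3, h4⟩
  have hZ1 := Z1_le h
  have c1 : Com (A1 φ a) E (Z1 φ) := by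
    intro x hx1 e he
    apply comm_u4_mem
    have hx3 : x ∈ Z3 φ := ⟨hx1.1, hx1.2.1, hx1.2.2.1⟩
    obtain ⟨k, hk⟩ := hx e he
    obtain ⟨d1, d2, d3, d4⟩ := comm_mem_Z2 (x := e) hx3
    refine ⟨d1, d2, d3, d4, ?_⟩
    rw [comm_x2' hx3, hk, smul_mul_assoc, tr_smul, hx1.2.2.2, mul_zero]
  have c2 : Com (Z2 φ) E (Z1 φ) := fun x hx2 e _ => comm_u4_mem (by rw [comm_Z2 hx2]; exact u4_mem _)
  have hZA : Z2 φ ≤ A1 φ a := fun x hx2 => ⟨hx2.1, hx2.2.1, hx2.2.2.1, by rw [hx2.2.2.2, mul_zero, tr_zero]⟩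
  have hA1 : ¬ A1 φ a ≤ E := fun hle => hZ (hZA.trans hle)
  have i1 := p2 h (A1 φ a) (A1 φ a) (Z1 φ) (Z1 φ) ⊥ ⊥ (le_norm hZ1 c1) (le_norm hZ1 c1) hA1 hZ1 hZ1 c1 c1 bot_le bot_le
  rw [Subgroup.relIndex_bot_left, card_Z1, ← pow_two] at i1
  have i2 : E.relIndex (A1 φ a) ≤ Nat.card F := (Nat.pow_le_pow_iff_left two_ne_zero).1 i1
  have hq : 0 < Nat.card F := Nat.card_pos
  have ht : 0 < Nat.card (trHom φ a).ker := Nat.card_pos
  have i3 := card_inf_mul E (A1 φ a)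
  rw [card_A1] at i3
  have hle : E ⊓ A1 φ a ≤ Y0 φ a := fun x hx1 => hEZ ⟨hx1.1, hx1.2.1, hx1.2.2.1⟩
  have i4 : Nat.card (trHom φ a).ker * Nat.card F ≤ Nat.card (E ⊓ A1 φ a : Subgroup (Sy φ)) := by
    have : Nat.card (trHom φ a).ker * Nat.card F * Nat.card F ≤
        Nat.card (E ⊓ A1 φ a : Subgroup (Sy φ)) * Nat.card F := by
      calc _ = Nat.card (trHom φ a).ker * Nat.card F ^ 2 := by ring
        _ = _ := i3.symm
        _ ≤ _ := Nat.mul_le_mul le_rfl i2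
    exact Nat.le_of_mul_le_mul_right this hq
  have hY : E ⊓ A1 φ a = Y0 φ a := by
    apply Subgroup.eq_of_le_of_card_ge hle
    rw [card_Y0]
    exact i4
  have hYE : Y0 φ a ≤ E := hY ▸ inf_le_left
  have c3 : Com (A2 φ a) E (Y0 φ a) := by
    intro x hx2 e he
    apply comm_u4_mem
    have hx4 : x ∈ Z4 φ := ⟨hx2.1, hx2.2.1⟩
    obtain ⟨k, hk⟩ := hx e he
    obtain ⟨d1, d2, d3⟩ := comm_mem_Z3 (x := e) hx4
    refine ⟨d1, d2, d3, ?_, ?_⟩
    · rw [comm_x3 hx4, hk, cr_smul_left, mul_smul_comm, tr_smul, ← tr_cr, cr_self, mul_assoc, two_mul, tr_add,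
        hx2.2.2.1, add_zero, mul_zero]
    · rw [comm_x2 hx4, hk, smul_mul_assoc, tr_smul, hx2.2.2.2, sh_smul, smul_mul_assoc, tr_smul, hx2.2.2.1]
      ring
  have hZ2 : ¬ Z2 φ ≤ E := hZ
  have i5 := p2 h (A2 φ a) (Z2 φ) (Y0 φ a) (Z1 φ) ⊥ ⊥ (le_norm hYE c3) (le_norm hZ1 c2) hZ2 hYE hZ1 c3 c2 bot_le bot_le
  rw [Subgroup.relIndex_bot_left, Subgroup.relIndex_bot_left, card_Z1, card_Y0] at i5
  have i6 := card_inf_mul E (A2 φ a)
  rw [card_A2] at i6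
  have hle2 : E ⊓ A2 φ a ≤ Y0 φ a := fun x hx1 => hEZ ⟨hx1.1, hx1.2.1, hx1.2.2.1⟩
  have i7 : Nat.card (E ⊓ A2 φ a : Subgroup (Sy φ)) ≤ Nat.card (trHom φ a).ker * Nat.card F := by
    rw [← card_Y0]
    exact Nat.card_mono (Set.toFinite _) hle2
  have hsa : sh φ a ≠ 0 := fun h0 => ha ((sh_eq_zero φ).1 h0)
  have i8 : Nat.card (trHom φ (sh φ a)).ker = Nat.card (trHom φ a).ker := by
    have e1 := card_ker (φ := φ) hsa
    have e2 := card_ker (φ := φ) ha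
    exact Nat.eq_of_mul_eq_mul_right hq (e1.trans e2.symm)
  rw [i8] at i6
  have i9 := one_lt_ker (φ := φ) a
  set t := Nat.card (trHom φ a).ker
  set q := Nat.card F
  set r := E.relIndex (A2 φ a)
  have j1 : t * t * q ^ 2 ≤ t * q * r := by
    rw [← i6]
    exact Nat.mul_le_mul i7 le_rfl
  have j2 : t * q ≤ r := by
    have : t * q * (t * q) ≤ t * q * r := by
      calc _ = t * t * q ^ 2 := by ring
        _ ≤ _ := j1
    exact Nat.le_of_mul_le_mul_left this (Nat.mul_pos ht hq)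
  have j3 : (t * q) ^ 2 ≤ t * q * q := (Nat.pow_le_pow_left j2 2).trans i5
  have j4 : t ≤ 1 := by
    have : (t * q * q) * t ≤ (t * q * q) * 1 := by
      calc _ = (t * q) ^ 2 := by ring
        _ ≤ _ := j3
        _ = _ := by ring
    exact Nat.le_of_mul_le_mul_left this (Nat.mul_pos (Nat.mul_pos ht hq) hq)
  omega

/-- **(M0), `p` odd.** -/
theorem stM0o (p2 : StP2.{u}) (hull : StHull.{u}) (cj : StConj.{u}) (reg : StReg.{u}) : StM0o.{u} := by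
  intro F K _ _ _ _ _ φ _ p _ E Γ h hp2 hm
  by_contra hz
  obtain ⟨z, hzE, hc, hp, h6⟩ := exists_z hull h hz
  obtain ⟨h1, hk⟩ := reg_of hm hc h6
  obtain ⟨g, hg⟩ := reg z hp2 h1 h6
  obtain ⟨Γ', h'⟩ := cj h g trivial
  refine core p2 h' (two_ne h.pp hp2) h1 h6 ?_ ?_ ?_
  · rintro _ ⟨e, he, rfl⟩
    rw [← hg]
    change g * z * g⁻¹ * (g * e * g⁻¹) = (g * e * g⁻¹) * (g * z * g⁻¹)
    have e1 : g * z * g⁻¹ * (g * e * g⁻¹) = g * (z * e) * g⁻¹ := by group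
    have e2 : (g * e * g⁻¹) * (g * z * g⁻¹) = g * (e * z) * g⁻¹ := by group
    rw [e1, e2, hc e he]
  · rintro _ ⟨e, he, rfl⟩
    refine ⟨e.x6 / z.x6, ?_⟩
    change (g * e * g⁻¹).x1 = _
    rw [mul_x1, mul_x1, inv_x1, ← hk e he]
    ring
  · intro hle
    apply hz
    intro x hx
    have h3 : g * x * g⁻¹ ∈ Z2 φ := (inferInstance : (Z2 φ).Normal).conj_mem x hx g
    obtain ⟨e, he, h4⟩ := hle h3
    have h5 : e = x := (MulAut.conj g).injective h4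
    exact h5 ▸ he

end Model

end Cfsg.Agent.H534.TE
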